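import Cfsg.Agent.H31.BR.Arith

/-!
# S4829, polar rows : the numbers of totally singular subspaces modulo `p`, every order `d ≥ 1` (helper35)

`card_lin'`, `card_lin_two'` : `c d = 2 a`, `c (2 d) = 2 a (a - 1)` modulo `p` for `w = a d + (d - 1)`, `d ≥ 1` odd.
`tri_sp`, `tri_minus`, `tri_plus` : `p ∣ c k` for some `k`, or `w = 2 d - 1` (`d ≥ 3` odd, cyclic Sylow subgroups), or
`w = a d + (d - 1)` with `a ≠ 0, 1` modulo `p` and `2 d ≤ w`.
-/

set_option autoImplicit false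

open Finset

namespace Cfsg.Agent.H35.CY

open Cfsg.Agent.H31.BR.Arith

variable {p q : ℕ} [hp : Fact p.Prime] {w ε a : ℕ} {c : ℕ → ℕ}

theorem q_eq_one (hd : orderOf (q : ZMod p) = 1) : (q : ZMod p) = 1 := orderOf_eq_one_iff.1 hd

/-- `k = 1`, `p ∣ q - 1` -/
theorem card_one (hq : 1 < q) (hc : CC q w ε c) (hd : orderOf (q : ZMod p) = 1) (hw : 1 ≤ w) :
    (c 1 : ZMod p) = 2 * w := by
  have h1 := hc.int (by omega) (k := 1) hw
  rw [prod_range_one, prod_range_one, prod_range_one, zero_add, Nat.sub_zero, Nat.sub_zero] at h1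
  have hne : ((q : ℤ) ^ 1 - 1) ≠ 0 := by
    have : (1 : ℤ) < (q : ℤ) ^ 1 := one_lt_pow₀ (by exact_mod_cast hq) (by omega)
    omega
  have e1 : (q : ℤ) ^ w - 1 = G q 1 w * ((q : ℤ) ^ 1 - 1) := by rw [G_mul, mul_one]
  rw [e1] at h1
  have h2 : (c 1 : ℤ) = G q 1 w * ((q : ℤ) ^ (w - 1 + ε) + 1) := by
    refine mul_right_cancel₀ hne ?_
    linear_combination h1
  have h3 := congrArg (fun z : ℤ => (z : ZMod p)) h2
  simp only [Int.cast_mul, Int.cast_add, Int.cast_pow, Int.cast_natCast, Int.cast_one] at h3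
  have h4 : ((G q 1 w : ℤ) : ZMod p) = w := by
    have := G_cast (p := p) (q := q) w
    rwa [hd] at this
  rw [h4, q_eq_one hd, one_pow] at h3
  rw [h3]
  ring

/-- `k = 2`, `p ∣ q - 1` -/
theorem card_two (hp2 : p ≠ 2) (hq : 1 < q) (hc : CC q w ε c) (hd : orderOf (q : ZMod p) = 1) (hw : 2 ≤ w) :
    (c 2 : ZMod p) = 2 * w * (w - 1) := by
  obtain ⟨w', rfl⟩ : ∃ w', w = w' + 1 := ⟨w - 1, by omega⟩
  have h1 := hc.int (by omega) (k := 2) hw
  simp only [prod_range_succ, prod_range_zero, one_mul] at h1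
  rw [show w' + 1 - 0 = w' + 1 by omega, show w' + 1 - 1 = w' by omega, show w' - 0 + ε = w' + ε by omega,
    show (0 : ℕ) + 1 = 1 by rfl, show (1 : ℕ) + 1 = 2 by rfl] at h1
  have hne : ((q : ℤ) ^ 1 - 1) ≠ 0 := by
    have : (1 : ℤ) < (q : ℤ) ^ 1 := one_lt_pow₀ (by exact_mod_cast hq) (by omega)
    omega
  have e1 : (q : ℤ) ^ (w' + 1) - 1 = G q 1 (w' + 1) * ((q : ℤ) ^ 1 - 1) := by rw [G_mul, mul_one]
  have e2 : (q : ℤ) ^ w' - 1 = G q 1 w' * ((q : ℤ) ^ 1 - 1) := by rw [G_mul, mul_one]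
  have e3 : (q : ℤ) ^ 2 - 1 = ((q : ℤ) ^ 1 - 1) * (q + 1) := by ring
  rw [e1, e2, e3] at h1
  have h2 : (c 2 : ℤ) * (q + 1) = G q 1 (w' + 1) * G q 1 w' * (((q : ℤ) ^ (w' + ε) + 1) * ((q : ℤ) ^ (w' - 1 + ε) + 1)) := by
    refine mul_right_cancel₀ (mul_ne_zero hne hne) ?_
    linear_combination h1
  have h3 := congrArg (fun z : ℤ => (z : ZMod p)) h2
  simp only [Int.cast_mul, Int.cast_add, Int.cast_pow, Int.cast_natCast, Int.cast_one] at h3
  have h4 : ∀ a : ℕ, ((G q 1 a : ℤ) : ZMod p) = a := by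
    intro a
    have := G_cast (p := p) (q := q) a
    rwa [hd] at this
  rw [h4, h4, q_eq_one hd, one_pow, one_pow] at h3
  have h20 : (2 : ZMod p) ≠ 0 := by
    have : ((2 : ℕ) : ZMod p) ≠ 0 := by
      rw [Ne, ZMod.natCast_eq_zero_iff]
      exact fun h => hp2 ((Nat.prime_dvd_prime_iff_eq hp.out Nat.prime_two).1 h)
    exact_mod_cast this
  refine mul_right_cancel₀ h20 ?_
  push_cast at h3 ⊢
  linear_combination h3

/-- **linear type, `k = d`**, `d ≥ 1` -/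
theorem card_lin' (hp2 : p ≠ 2) (hq : 1 < q) (hpq : ¬ p ∣ q) (hc : CC q w ε c) (hd : Odd (orderOf (q : ZMod p)))
    (ha : 1 ≤ a) (hw : w = a * orderOf (q : ZMod p) + (orderOf (q : ZMod p) - 1)) :
    (c (orderOf (q : ZMod p)) : ZMod p) = 2 * a := by
  rcases Nat.lt_or_ge 1 (orderOf (q : ZMod p)) with h1 | h1
  · exact card_lin hp2 hq hpq hc hd h1 ha hw
  · have h2 : orderOf (q : ZMod p) = 1 := by
      obtain ⟨t, ht⟩ := hd
      omega
    rw [h2, mul_one] at hw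
    have h3 := card_one hq hc h2 (by omega)
    rw [h2, h3, show w = a by omega]

/-- **linear type, `k = 2 d`**, `d ≥ 1` -/
theorem card_lin_two' (hp2 : p ≠ 2) (hq : 1 < q) (hpq : ¬ p ∣ q) (hc : CC q w ε c) (hd : Odd (orderOf (q : ZMod p)))
    (ha : 2 ≤ a) (hw : w = a * orderOf (q : ZMod p) + (orderOf (q : ZMod p) - 1)) :
    (c (2 * orderOf (q : ZMod p)) : ZMod p) = 2 * a * (a - 1) := by
  rcases Nat.lt_or_ge 1 (orderOf (q : ZMod p)) with h1 | h1
  · exact card_lin_two hp2 hq hpq hc hd h1 ha hw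
  · have h2 : orderOf (q : ZMod p) = 1 := by
      obtain ⟨t, ht⟩ := hd
      omega
    rw [h2, mul_one] at hw
    have h3 := card_two hp2 hq hc h2 (by omega)
    rw [h2, mul_one, h3, show w = a by omega]

/-- the outcome of linear type -/
def Lin (p q w : ℕ) : Prop :=
  Odd (orderOf (q : ZMod p)) ∧ ∃ a, 2 ≤ a ∧ w = a * orderOf (q : ZMod p) + (orderOf (q : ZMod p) - 1) ∧
    ¬ p ∣ a ∧ ¬ p ∣ a - 1

/-- the outcome of cyclic Sylow subgroups -/
def CycC (p q w : ℕ) : Prop :=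
  Odd (orderOf (q : ZMod p)) ∧ 3 ≤ orderOf (q : ZMod p) ∧ w = 2 * orderOf (q : ZMod p) - 1

/-- the three outcomes of `w = a d + (d - 1)` -/
theorem tri (hp2 : p ≠ 2) (hq : 1 < q) (hpq : ¬ p ∣ q) (hc : CC q w ε c) (hodd : Odd (orderOf (q : ZMod p)))
    (hw2 : 2 ≤ w) {K : ℕ} (ha : 1 ≤ a) (hw : w = a * orderOf (q : ZMod p) + (orderOf (q : ZMod p) - 1))
    (hK1 : 3 ≤ a → orderOf (q : ZMod p) ≤ K) (hK2 : 4 ≤ a → 2 * orderOf (q : ZMod p) ≤ K) :
    (∃ k, 1 ≤ k ∧ k ≤ K ∧ p ∣ c k) ∨ CycC p q w ∨ Lin p q w := by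
  have hd0 := order_pos (p := p) (q := q) hpq
  have hp3 : 3 ≤ p := by
    have := hp.out.two_le
    omega
  rcases Nat.lt_or_ge a 2 with h2 | h2
  · have ha1 : a = 1 := by omega
    subst ha1
    right
    left
    obtain ⟨t, ht⟩ := hodd
    exact ⟨⟨t, ht⟩, by omega, by omega⟩
  · by_cases h0 : p ∣ a
    · left
      have := Nat.le_of_dvd (by omega) h0
      refine ⟨_, hd0, hK1 (by omega), ?_⟩
      rw [← ZMod.natCast_eq_zero_iff, card_lin' hp2 hq hpq hc hodd ha hw, (ZMod.natCast_eq_zero_iff a p).2 h0, mul_zero]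
    · by_cases h1 : p ∣ a - 1
      · left
        have := Nat.le_of_dvd (by omega) h1
        refine ⟨_, by omega, hK2 (by omega), ?_⟩
        rw [← ZMod.natCast_eq_zero_iff, card_lin_two' hp2 hq hpq hc hodd h2 hw]
        have h3 := (ZMod.natCast_eq_zero_iff (a - 1) p).2 h1
        rw [Nat.cast_sub (by omega), Nat.cast_one] at h3
        rw [h3, mul_zero]
      · exact Or.inr (Or.inr ⟨hodd, a, h2, hw, h0, h1⟩)

/-- `d = 1` -/
theorem one_or (hpq : ¬ p ∣ q) : orderOf (q : ZMod p) = 1 ∨ 2 ≤ orderOf (q : ZMod p) := by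
  have := order_pos (p := p) (q := q) hpq
  omega

/-- **symplectic and odd orthogonal groups**, every `d ≥ 1` -/
theorem tri_sp (hp2 : p ≠ 2) (hq : 1 < q) (hpq : ¬ p ∣ q) (hc : CC q w 1 c) (hw2 : 2 ≤ w)
    (hS : p ∣ ∏ i ∈ range w, (q ^ (2 * (i + 1)) - 1)) :
    (∃ k, 1 ≤ k ∧ k ≤ w ∧ p ∣ c k) ∨ CycC p q w ∨ Lin p q w := by
  have key : ∀ a, 1 ≤ a → w = a * orderOf (q : ZMod p) + (orderOf (q : ZMod p) - 1) → Odd (orderOf (q : ZMod p)) →
      (∃ k, 1 ≤ k ∧ k ≤ w ∧ p ∣ c k) ∨ CycC p q w ∨ Lin p q w := by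
    intro a ha hw hodd
    refine tri hp2 hq hpq hc hodd hw2 ha hw (fun h => ?_) (fun h => ?_)
    · have := Nat.le_mul_of_pos_left (orderOf (q : ZMod p)) ha
      omega
    · have : 2 * orderOf (q : ZMod p) ≤ a * orderOf (q : ZMod p) := Nat.mul_le_mul_right _ (by omega)
      omega
  rcases one_or (p := p) hpq with h1 | h1
  · exact key w (by omega) (by rw [h1]; omega) (by rw [h1]; exact odd_one)
  · rcases cases_sp hq hpq hc h1 hS with h | ⟨hodd, a, ha, hw⟩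
    · exact Or.inl h
    · exact key a ha hw hodd

/-- **orthogonal groups of minus type**, Witt index `w`, every `d ≥ 1` -/
theorem tri_minus (hp2 : p ≠ 2) (hq : 1 < q) (hpq : ¬ p ∣ q) (hc : CC q w 2 c) (hw2 : 2 ≤ w)
    (hS : p ∣ (q ^ (w + 1) + 1) * ∏ i ∈ range w, (q ^ (2 * (i + 1)) - 1)) :
    (∃ k, 1 ≤ k ∧ k ≤ w ∧ p ∣ c k) ∨ CycC p q w ∨ Lin p q w := by
  have key : ∀ a, 1 ≤ a → w = a * orderOf (q : ZMod p) + (orderOf (q : ZMod p) - 1) → Odd (orderOf (q : ZMod p)) →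
      (∃ k, 1 ≤ k ∧ k ≤ w ∧ p ∣ c k) ∨ CycC p q w ∨ Lin p q w := by
    intro a ha hw hodd
    refine tri hp2 hq hpq hc hodd hw2 ha hw (fun h => ?_) (fun h => ?_)
    · have := Nat.le_mul_of_pos_left (orderOf (q : ZMod p)) ha
      omega
    · have : 2 * orderOf (q : ZMod p) ≤ a * orderOf (q : ZMod p) := Nat.mul_le_mul_right _ (by omega)
      omega
  rcases one_or (p := p) hpq with h1 | h1
  · exact key w (by omega) (by rw [h1]; omega) (by rw [h1]; exact odd_one)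
  · rcases cases_minus hq hp2 hpq hw2 hc h1 hS with h | ⟨hodd, a, ha, hw⟩
    · exact Or.inl h
    · exact key a ha hw hodd

/-- **orthogonal groups of plus type**, `2 K < w`, `w ≥ 5`, every `d ≥ 1` : the further exceptions are `w = 2 d - 2`
(`d` odd, cyclic Sylow subgroups) and `w = 6`, `d = 4` -/
theorem tri_plus (hp2 : p ≠ 2) (hq : 1 < q) (hpq : ¬ p ∣ q) (hc : CC q w 0 c) (hw5 : 5 ≤ w) {K : ℕ}
    (hK : ∀ k, 2 * k < w → k ≤ K) (hS : p ∣ (q ^ w - 1) * ∏ i ∈ range (w - 1), (q ^ (2 * (i + 1)) - 1)) :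
    (∃ k, 1 ≤ k ∧ k ≤ K ∧ p ∣ c k) ∨ CycC p q w ∨ Lin p q w ∨
      (Odd (orderOf (q : ZMod p)) ∧ w = 2 * orderOf (q : ZMod p) - 2) ∨ (w = 6 ∧ orderOf (q : ZMod p) = 4) := by
  have hd0 := order_pos (p := p) (q := q) hpq
  have key : ∀ a, 1 ≤ a → w = a * orderOf (q : ZMod p) + (orderOf (q : ZMod p) - 1) → Odd (orderOf (q : ZMod p)) →
      (∃ k, 1 ≤ k ∧ k ≤ K ∧ p ∣ c k) ∨ CycC p q w ∨ Lin p q w := by
    intro a ha hw hodd
    by_cases h4 : a = 4 ∧ orderOf (q : ZMod p) = 1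
    · rw [h4.1, h4.2] at hw
      omega
    · refine tri hp2 hq hpq hc hodd (by omega) ha hw (fun h => hK _ ?_) (fun h => hK _ ?_)
      · have : 3 * orderOf (q : ZMod p) ≤ a * orderOf (q : ZMod p) := Nat.mul_le_mul_right _ h
        omega
      · rcases Nat.lt_or_ge 4 a with h5 | h5
        · have : 5 * orderOf (q : ZMod p) ≤ a * orderOf (q : ZMod p) := Nat.mul_le_mul_right _ h5
          omega
        · have ha4 : a = 4 := by omega
          subst ha4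
          omega
  rcases one_or (p := p) hpq with h1 | h1
  · rcases key w (by omega) (by rw [h1]; omega) (by rw [h1]; exact odd_one) with h | h | h
    · exact Or.inl h
    · exact Or.inr (Or.inl h)
    · exact Or.inr (Or.inr (Or.inl h))
  · rcases Nat.even_or_odd (orderOf (q : ZMod p)) with he | hodd
    · obtain ⟨j, hj⟩ := he
      rcases cases_plus_even hq hw5 hc (j := j) (by omega) (by omega) hS with ⟨k, h2, h3, h4⟩ | h
      · exact Or.inl ⟨k, h2, hK k h3, h4⟩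
      · exact Or.inr (Or.inr (Or.inr (Or.inr h)))
    · rcases cases_plus_odd hq hpq hw5 hc h1 hodd hS with ⟨k, h2, h3, h4⟩ | ⟨a, ha, hw⟩ | h
      · exact Or.inl ⟨k, h2, hK k h3, h4⟩
      · rcases key a ha hw hodd with h | h | h
        · exact Or.inl h
        · exact Or.inr (Or.inl h)
        · exact Or.inr (Or.inr (Or.inl h))
      · exact Or.inr (Or.inr (Or.inr (Or.inl ⟨hodd, h⟩)))

end Cfsg.Agent.H35.CY
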