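import Cfsg.Agent.H35.CY.Num
import Cfsg.Agent.H953.Dg.Cyc

/-!
# S4829, polar rows : the cyclic Sylow subgroups (helper35)

`CycC p q w` (`d ≥ 3` odd, `w = 2 d - 1`) : the Sylow `p`-subgroups of `PSp_{2w}(q)`, `PΩ_{2w+1}(q)`, `PΩ⁺_{2w}(q)`,
`PΩ⁻_{2w+2}(q)` are cyclic; also those of `PΩ⁺_{2w}(q)` for `d` odd, `w = 2 d - 2`.
-/

set_option autoImplicit false

namespace Cfsg.Agent.H35.CY

open Subgroup Cfsg Cfsg.Agent.OrdDiv Cfsg.Agent.H436 Cfsg.Agent.H915.GN Cfsg.Agent.H192.Dp Cfsg.Agent.H851.Dg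
  Cfsg.Agent.H953.Dp

variable {F : Type} [Field F] [Fintype F] {p : ℕ} [hp : Fact p.Prime]

theorem cyc_psp {w : ℕ} (h : CycC p (Nat.card F) w) (P : Sylow p (PSp w F)) : IsCyclic ↥(P : Subgroup (PSp w F)) := by
  rw [Nat.card_eq_fintype_card] at h
  obtain ⟨ho, h3, hw⟩ := h
  exact Cfsg.Agent.H953.Dg.cyc_psp (m := w) (by omega) ⟨hp.out, Or.inr ⟨ho, by omega, by omega⟩⟩ P P.isPGroup'

theorem cyc_oodd {w : ℕ} (hF : Odd (Fintype.card F)) (h : CycC p (Nat.card F) w)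
    (P : Sylow p (POmega F (quadFormOdd w F))) : IsCyclic ↥(P : Subgroup (POmega F (quadFormOdd w F))) := by
  rw [Nat.card_eq_fintype_card] at h
  obtain ⟨ho, h3, hw⟩ := h
  exact Cfsg.Agent.H953.Dg.cyc_oodd (m := w) (by omega) hF ⟨hp.out, Or.inr ⟨ho, by omega, by omega⟩⟩ P P.isPGroup'

theorem cyc_oplus {w : ℕ} (h : CycC p (Nat.card F) w ∨ (4 ≤ w ∧ Odd (orderOf ((Nat.card F : ℕ) : ZMod p)) ∧
    w = 2 * orderOf ((Nat.card F : ℕ) : ZMod p) - 2))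
    (P : Sylow p (POmega F (quadFormPlus w F))) : IsCyclic ↥(P : Subgroup (POmega F (quadFormPlus w F))) := by
  rw [Nat.card_eq_fintype_card] at h
  rcases h with ⟨ho, h3, hw⟩ | ⟨h4, ho, hw⟩
  · exact Cfsg.Agent.H953.Dg.cyc_oplus (m := w) (by omega) ⟨hp.out, Or.inr ⟨ho, by omega, by omega⟩⟩ P P.isPGroup'
  · exact Cfsg.Agent.H953.Dg.cyc_oplus (m := w) (by omega) ⟨hp.out, Or.inr ⟨ho, by omega, by omega⟩⟩ P P.isPGroup'

/-- minus type, `m = 2 e` -/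
theorem ominus_row' {m q e : ℕ} {T : Type} [Group T] [Finite T] (h : IsNamed (.ominus m q) T) (hu : p.Prime)
    (he : orderOf ((q : ℕ) : ZMod p) = e) (he3 : 3 ≤ e) (h1 : Odd e) (h2 : m ≤ 2 * e) (h3 : e ≤ m - 1) :
    GoodP T p (2 * m) := by
  obtain ⟨⟨F, _, _, a, b, hF, hab, ⟨ε⟩⟩, -, heq, -⟩ := h
  subst hF
  classical
  have hu2 := ne_two he3 he
  have huq := not_dvd_q he3 he
  have hq : 2 ≤ Fintype.card F := Fintype.one_lt_card
  have hd := Cfsg.Agent.H948.OnPO.dvd_iff (p := p) (q := Fintype.card F) (by omega) he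
  have heq' : Nat.gcd 4 (Fintype.card F ^ m + 1) * Nat.card T =
    Fintype.card F ^ (m * (m - 1)) * ((Fintype.card F ^ m + 1) * prB (Fintype.card F) (m - 1)) := heq
  have hdd : ¬ p ∣ Nat.gcd 4 (Fintype.card F ^ m + 1) := not_dvd_gcd_four hu hu2
  have hfac := val_of_eq hdd (Nat.gcd_pos_of_pos_left _ (by norm_num)).ne' Nat.card_pos.ne' huq hq
    (Nat.succ_ne_zero _) (prB_ne hq (m - 1)) heq'
  have hdvd : p ∣ Nat.card T := by
    refine dvd_of_eq' hu hdd heq' (Dvd.dvd.mul_left ?_ _)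
    exact Dvd.dvd.mul_left (dvd_prB hd (j := e) (by omega) (by omega) (dvd_mul_left e 2)) _
  have hcard : Fintype.card ((Fin (m - 1) ⊕ Fin (m - 1)) ⊕ Fin 2) = 2 * m := by
    simp only [Fintype.card_sum, Fintype.card_fin]
    omega
  have key := goodP_orth (T := T) (u := p) (e := e)
    (Cfsg.Agent.ClassicalGeometry.OrthSemiForms.good_minus (F := F) (m := m - 1) (by omega) a b hab)
    (by rw [Cfsg.Agent.LieClassical.OrthForms.coe_minusForm]; exact ε) hu he3 he hdvd ?_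
  · rwa [hcard] at key
  · rw [hcard, Cfsg.Agent.LieClassical.OrthForms.coe_minusForm]
    right
    refine ⟨m - 1, h3, by omega, H376.WordEmb.sl_minus (m - 1) a b, ?_⟩
    rw [hfac, val_prB hq hu2 hd h1 he3 (by omega), if_pos h3]
    have h5 : ¬ p ∣ Fintype.card F ^ m + 1 :=
      Cfsg.Agent.H31.BR.Arith.not_dvd_add_one hu2 (by rw [he]; exact h1) m
    rw [padicValNat.eq_zero_of_not_dvd h5, zero_add]

/-- `POmega⁻_{2m}(q)`, Witt index `m - 1 = 2 d - 1` -/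
theorem cyc_ominus {m : ℕ} (hm : 4 ≤ m) {a b : F}
    (hab : ∀ z₁ z₂ : F, z₁ ^ 2 + a * z₁ * z₂ + b * z₂ ^ 2 = 0 → z₁ = 0 ∧ z₂ = 0)
    (h : CycC p (Nat.card F) (m - 1)) (P : Sylow p (POmega F (quadFormMinus (m - 1) F a b))) :
    IsCyclic ↥(P : Subgroup (POmega F (quadFormMinus (m - 1) F a b))) := by
  rw [Nat.card_eq_fintype_card] at h
  obtain ⟨ho, h3, hw⟩ := h
  have hfin : Finite (POmega F (quadFormMinus (m - 1) F a b)) := Quotient.finite _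
  exact (ominus_row' (H264.FKS.named_ominus F hm hab) hp.out rfl h3 ho (by omega) (by omega)).cyc P

end Cfsg.Agent.H35.CY
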