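import Cfsg.Agent.H650.CY.OMinusData
import Cfsg.Agent.H35.CY.OOdd

/-!
# S4829, field `ominus` of `RowsAN` (helper35, on helper650's data)

`rowA_ominus` : the row of `PΩ⁻_{2m}(q)`, `m ≥ 4`, all cases but the cyclic one; `ominus` : the field.
-/

set_option autoImplicit false

namespace Cfsg.Agent.H35.CY

open Cfsg Cfsg.Agent.H770.CY Cfsg.Agent.H776.CY Cfsg.Agent.H145.BR Cfsg.Agent.H31.BR Cfsg.Agent.H410.BR
  Cfsg.Agent.H987.BR Cfsg.Agent.H674.BR
open Cfsg.Agent.LieClassical Cfsg.Agent.LieClassical.OrthCore Cfsg.Agent.LieClassical.OrthForms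
  Cfsg.Agent.LieClassical.OrthTrans Cfsg.Agent.LieClassical.OrthFinite

variable {p : ℕ} [hp : Fact p.Prime] {F : Type} [Field F] [Fintype F]

/-- **`PΩ⁻_{2m}(q)`**, `m ≥ 4`; only the cyclic case is a hypothesis -/
theorem rowA_ominus (hp2 : p ≠ 2) {m : ℕ} {a b : F} [Fintype (POmega F ⇑(minusForm (m - 1) F a b))]
    [IsSimpleGroup (POmega F ⇑(minusForm (m - 1) F a b))]
    (hna : ¬ IsMulCommutative (POmega F ⇑(minusForm (m - 1) F a b))) (hq : (p : F) ≠ 0) (hm : 4 ≤ m)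
    (hab : ∀ z₁ z₂ : F, z₁ ^ 2 + a * z₁ * z₂ + b * z₂ ^ 2 = 0 → z₁ = 0 ∧ z₂ = 0)
    (hd : p ∣ Nat.card (POmega F (quadFormMinus (m - 1) F a b)))
    (hcyc : CycC p (Nat.card F) (m - 1) → RowA p (POmega F ⇑(minusForm (m - 1) F a b))) :
    RowA p (POmega F ⇑(minusForm (m - 1) F a b)) := by
  have hq' := Cfsg.Agent.H35.BR.card_dvd_of_ne (p := p) hq
  exact Cfsg.Agent.H162.CY.rowA_minus hna (Cfsg.Agent.H650.CY.polInst_minus (F := F) hp2 hm hab)
    (Cfsg.Agent.H650.CY.hAut_minus hm hab) hp2 hq' (by omega) (Cfsg.Agent.H650.CY.dvd_minus hm hab hq hd) hcyc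

/-- **the field `ominus` of `RowsAN`** -/
theorem ominus (hp2 : p ≠ 2) :
    RowForAN p (fun X _ => ∃ (F : Type) (_ : Field F) (_ : Fintype F) (m : ℕ) (a b : F), (p : F) ≠ 0 ∧
      4 ≤ m ∧ (∀ z₁ z₂ : F, z₁ ^ 2 + a * z₁ * z₂ + b * z₂ ^ 2 = 0 → z₁ = 0 ∧ z₂ = 0) ∧
      Nonempty (X ≃* POmega F (quadFormMinus (m - 1) F a b))) := by
  intro X _ _ _ hna hd hnc hC
  obtain ⟨F, _, _, m, a, b, hq, hm, hab, ⟨e⟩⟩ := hC
  have hd' : p ∣ Nat.card (POmega F (quadFormMinus (m - 1) F a b)) := by rwa [← Nat.card_congr e.toEquiv]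
  obtain ⟨e'⟩ : Nonempty (X ≃* POmega F ⇑(minusForm (m - 1) F a b)) := by
    rw [coe_minusForm]
    exact ⟨e⟩
  have hfin : Finite (POmega F ⇑(minusForm (m - 1) F a b)) := Quotient.finite _
  let _ : Fintype (POmega F ⇑(minusForm (m - 1) F a b)) := Fintype.ofFinite _
  have _ : IsSimpleGroup (POmega F ⇑(minusForm (m - 1) F a b)) := e'.symm.isSimpleGroup
  have hna' : ¬ IsMulCommutative (POmega F ⇑(minusForm (m - 1) F a b)) := by
    intro h
    apply hna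
    refine ⟨⟨fun a b => e'.injective ?_⟩⟩
    rw [map_mul, map_mul]
    exact h.is_comm.comm _ _
  refine RowA.congr e' (rowA_ominus hp2 hna' hq hm hab hd' fun h1 => ?_)
  obtain ⟨P⟩ : Nonempty (Sylow p (POmega F (quadFormMinus (m - 1) F a b))) := inferInstance
  exact absurd (cyc_ominus hm hab h1 P) (not_cyclic_congr e hnc P)

end Cfsg.Agent.H35.CY
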